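import Cfsg.Agent.Lib.Mono.Gen
import Cfsg.Prelude.Def_ChevAutomorphisms

/-!
The certificates: the fundamental root subgroups obtained from one short fundamental root subgroup (or one
short and one long one) and the `n_p`.
-/

set_option autoImplicit false
set_option maxRecDepth 100000
set_option maxHeartbeats 0

namespace Cfsg.Agent.Lib.Mono.Certs

open Cfsg Lie ChevalleyDatum
open Cfsg.Agent.Lib.Mono.Gen

theorem chkG2_0 : checkAll chevG2 [0] 3 [.word 0 [], .comm 0 [1] [0] (3)] = true := by decide +kernel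

theorem chkB2_0 : checkAll chevB2 [0] 2 [.word 0 [], .comm 0 [1] [0] (2)] = true := by decide +kernel

theorem chkD4_0 : checkAll chevD4 [0] 1 [.word 0 [], .word 0 [0, 1], .word 0 [1, 0, 2, 1], .word 0 [1, 0, 3, 1]] = true := by decide +kernel

theorem chkD4_1 : checkAll chevD4 [1] 1 [.word 1 [1, 0], .word 1 [], .word 1 [1, 2], .word 1 [1, 3]] = true := by decide +kernel

theorem chkD4_2 : checkAll chevD4 [2] 1 [.word 2 [1, 0, 2, 1], .word 2 [2, 1], .word 2 [], .word 2 [1, 2, 3, 1]] = true := by decide +kernel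

theorem chkD4_3 : checkAll chevD4 [3] 1 [.word 3 [1, 0, 3, 1], .word 3 [3, 1], .word 3 [1, 2, 3, 1], .word 3 []] = true := by decide +kernel

theorem chkF4_0 : checkAll chevF4 [0] 2 [.word 0 [], .word 0 [0, 1], .comm 0 [1, 0] [2, 1] (-2), .comm 0 [3, 2, 1] [2, 1, 0] (2)] = true := by decide +kernel

theorem chkF4_1 : checkAll chevF4 [1] 2 [.word 1 [1, 0], .word 1 [], .comm 1 [2] [1] (2), .comm 1 [2, 1] [3, 2] (-2)] = true := by decide +kernel

theorem chkE6_0 : checkAll chevE6 [0] 1 [.word 0 [], .word 0 [3, 1, 2, 0, 3, 2], .word 0 [0, 2], .word 0 [2, 0, 3, 2], .word 0 [3, 4, 2, 0, 3, 2], .word 0 [4, 5, 3, 4, 2, 0, 3, 2]] = true := by decide +kernel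

theorem chkE6_1 : checkAll chevE6 [1] 1 [.word 1 [2, 0, 3, 1, 2, 3], .word 1 [], .word 1 [3, 1, 2, 3], .word 1 [1, 3], .word 1 [3, 1, 4, 3], .word 1 [4, 5, 3, 1, 4, 3]] = true := by decide +kernel

theorem chkE6_2 : checkAll chevE6 [2] 1 [.word 2 [2, 0], .word 2 [3, 1, 2, 3], .word 2 [], .word 2 [2, 3], .word 2 [3, 2, 4, 3], .word 2 [4, 5, 3, 2, 4, 3]] = true := by decide +kernel

theorem chkE6_3 : checkAll chevE6 [3] 1 [.word 3 [2, 0, 3, 2], .word 3 [3, 1], .word 3 [3, 2], .word 3 [], .word 3 [3, 4], .word 3 [4, 3, 5, 4]] = true := by decide +kernel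

theorem chkE6_4 : checkAll chevE6 [4] 1 [.word 4 [2, 0, 3, 2, 4, 3], .word 4 [3, 1, 4, 3], .word 4 [3, 2, 4, 3], .word 4 [4, 3], .word 4 [], .word 4 [4, 5]] = true := by decide +kernel

theorem chkE6_5 : checkAll chevE6 [5] 1 [.word 5 [2, 0, 3, 2, 4, 3, 5, 4], .word 5 [3, 1, 4, 3, 5, 4], .word 5 [3, 2, 4, 3, 5, 4], .word 5 [4, 3, 5, 4], .word 5 [5, 4], .word 5 []] = true := by decide +kernel

theorem chkE7_0 : checkAll chevE7 [0] 1 [.word 0 [], .word 0 [3, 1, 2, 0, 3, 2], .word 0 [0, 2], .word 0 [2, 0, 3, 2], .word 0 [3, 4, 2, 0, 3, 2], .word 0 [4, 5, 3, 4, 2, 0, 3, 2], .word 0 [5, 6, 4, 5, 3, 4, 2, 0, 3, 2]] = true := by decide +kernel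

theorem chkE7_1 : checkAll chevE7 [1] 1 [.word 1 [2, 0, 3, 1, 2, 3], .word 1 [], .word 1 [3, 1, 2, 3], .word 1 [1, 3], .word 1 [3, 1, 4, 3], .word 1 [4, 5, 3, 1, 4, 3], .word 1 [5, 6, 4, 5, 3, 1, 4, 3]] = true := by decide +kernel

theorem chkE7_2 : checkAll chevE7 [2] 1 [.word 2 [2, 0], .word 2 [3, 1, 2, 3], .word 2 [], .word 2 [2, 3], .word 2 [3, 2, 4, 3], .word 2 [4, 5, 3, 2, 4, 3], .word 2 [5, 6, 4, 5, 3, 2, 4, 3]] = true := by decide +kernel

theorem chkE7_3 : checkAll chevE7 [3] 1 [.word 3 [2, 0, 3, 2], .word 3 [3, 1], .word 3 [3, 2], .word 3 [], .word 3 [3, 4], .word 3 [4, 3, 5, 4], .word 3 [5, 6, 4, 3, 5, 4]] = true := by decide +kernel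

theorem chkE7_4 : checkAll chevE7 [4] 1 [.word 4 [2, 0, 3, 2, 4, 3], .word 4 [3, 1, 4, 3], .word 4 [3, 2, 4, 3], .word 4 [4, 3], .word 4 [], .word 4 [4, 5], .word 4 [5, 4, 6, 5]] = true := by decide +kernel

theorem chkE7_5 : checkAll chevE7 [5] 1 [.word 5 [2, 0, 3, 2, 4, 3, 5, 4], .word 5 [3, 1, 4, 3, 5, 4], .word 5 [3, 2, 4, 3, 5, 4], .word 5 [4, 3, 5, 4], .word 5 [5, 4], .word 5 [], .word 5 [5, 6]] = true := by decide +kernel

theorem chkE7_6 : checkAll chevE7 [6] 1 [.word 6 [2, 0, 3, 2, 4, 3, 5, 4, 6, 5], .word 6 [3, 1, 4, 3, 5, 4, 6, 5], .word 6 [3, 2, 4, 3, 5, 4, 6, 5], .word 6 [4, 3, 5, 4, 6, 5], .word 6 [5, 4, 6, 5], .word 6 [6, 5], .word 6 []] = true := by decide +kernel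

theorem chkE8_0 : checkAll chevE8 [0] 1 [.word 0 [], .word 0 [3, 1, 2, 0, 3, 2], .word 0 [0, 2], .word 0 [2, 0, 3, 2], .word 0 [3, 4, 2, 0, 3, 2], .word 0 [4, 5, 3, 4, 2, 0, 3, 2], .word 0 [5, 6, 4, 5, 3, 4, 2, 0, 3, 2], .word 0 [6, 7, 5, 6, 4, 5, 3, 4, 2, 0, 3, 2]] = true := by decide +kernel

theorem chkE8_1 : checkAll chevE8 [1] 1 [.word 1 [2, 0, 3, 1, 2, 3], .word 1 [], .word 1 [3, 1, 2, 3], .word 1 [1, 3], .word 1 [3, 1, 4, 3], .word 1 [4, 5, 3, 1, 4, 3], .word 1 [5, 6, 4, 5, 3, 1, 4, 3], .word 1 [6, 7, 5, 6, 4, 5, 3, 1, 4, 3]] = true := by decide +kernel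

theorem chkE8_2 : checkAll chevE8 [2] 1 [.word 2 [2, 0], .word 2 [3, 1, 2, 3], .word 2 [], .word 2 [2, 3], .word 2 [3, 2, 4, 3], .word 2 [4, 5, 3, 2, 4, 3], .word 2 [5, 6, 4, 5, 3, 2, 4, 3], .word 2 [6, 7, 5, 6, 4, 5, 3, 2, 4, 3]] = true := by decide +kernel

theorem chkE8_3 : checkAll chevE8 [3] 1 [.word 3 [2, 0, 3, 2], .word 3 [3, 1], .word 3 [3, 2], .word 3 [], .word 3 [3, 4], .word 3 [4, 3, 5, 4], .word 3 [5, 6, 4, 3, 5, 4], .word 3 [6, 7, 5, 6, 4, 3, 5, 4]] = true := by decide +kernel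

theorem chkE8_4 : checkAll chevE8 [4] 1 [.word 4 [2, 0, 3, 2, 4, 3], .word 4 [3, 1, 4, 3], .word 4 [3, 2, 4, 3], .word 4 [4, 3], .word 4 [], .word 4 [4, 5], .word 4 [5, 4, 6, 5], .word 4 [6, 7, 5, 4, 6, 5]] = true := by decide +kernel

theorem chkE8_5 : checkAll chevE8 [5] 1 [.word 5 [2, 0, 3, 2, 4, 3, 5, 4], .word 5 [3, 1, 4, 3, 5, 4], .word 5 [3, 2, 4, 3, 5, 4], .word 5 [4, 3, 5, 4], .word 5 [5, 4], .word 5 [], .word 5 [5, 6], .word 5 [6, 5, 7, 6]] = true := by decide +kernel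

theorem chkE8_6 : checkAll chevE8 [6] 1 [.word 6 [2, 0, 3, 2, 4, 3, 5, 4, 6, 5], .word 6 [3, 1, 4, 3, 5, 4, 6, 5], .word 6 [3, 2, 4, 3, 5, 4, 6, 5], .word 6 [4, 3, 5, 4, 6, 5], .word 6 [5, 4, 6, 5], .word 6 [6, 5], .word 6 [], .word 6 [6, 7]] = true := by decide +kernel

theorem chkE8_7 : checkAll chevE8 [7] 1 [.word 7 [2, 0, 3, 2, 4, 3, 5, 4, 6, 5, 7, 6], .word 7 [3, 1, 4, 3, 5, 4, 6, 5, 7, 6], .word 7 [3, 2, 4, 3, 5, 4, 6, 5, 7, 6], .word 7 [4, 3, 5, 4, 6, 5, 7, 6], .word 7 [5, 4, 6, 5, 7, 6], .word 7 [6, 5, 7, 6], .word 7 [7, 6], .word 7 []] = true := by decide +kernel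

theorem chk2G2_0_1 : checkAll chevG2 [0, 1] 1 [.word 0 [], .word 1 []] = true := by decide +kernel

theorem chk2B2_0_1 : checkAll chevB2 [0, 1] 1 [.word 0 [], .word 1 []] = true := by decide +kernel

theorem chk2F4_0_2 : checkAll chevF4 [0, 2] 1 [.word 0 [], .word 0 [0, 1], .word 2 [], .word 2 [2, 3]] = true := by decide +kernel

theorem chk2F4_0_3 : checkAll chevF4 [0, 3] 1 [.word 0 [], .word 0 [0, 1], .word 3 [3, 2], .word 3 []] = true := by decide +kernel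

theorem chk2F4_1_2 : checkAll chevF4 [1, 2] 1 [.word 1 [1, 0], .word 1 [], .word 2 [], .word 2 [2, 3]] = true := by decide +kernel

theorem chk2F4_1_3 : checkAll chevF4 [1, 3] 1 [.word 1 [1, 0], .word 1 [], .word 3 [3, 2], .word 3 []] = true := by decide +kernel


/-- Certificates for one short fundamental root. -/
theorem exists_cert {D : ChevalleyDatum} (hD : D ∈ [chevG2, chevB2, chevD4, chevF4, chevE6, chevE7, chevE8])
    {i : ℕ} (hi : i < D.rank) (hshort : D.isLong (D.simple i) = false) :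
    ∃ (p : ℤ) (l : List Cert), (p = 1 ∨ (p = 2 ∧ (D = chevB2 ∨ D = chevF4)) ∨ (p = 3 ∧ D = chevG2)) ∧
      checkAll D [i] p l = true := by
  simp only [List.mem_cons, List.not_mem_nil, or_false] at hD
  rcases hD with rfl | rfl | rfl | rfl | rfl | rfl | rfl
  · replace hi : i < 2 := hi
    interval_cases i
    · exact ⟨_, _, Or.inr (Or.inr ⟨rfl, rfl⟩), chkG2_0⟩
    · exact absurd hshort (by decide +kernel)
  · replace hi : i < 2 := hi
    interval_cases i
    · exact ⟨_, _, Or.inr (Or.inl ⟨rfl, Or.inl rfl⟩), chkB2_0⟩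
    · exact absurd hshort (by decide +kernel)
  · replace hi : i < 4 := hi
    interval_cases i
    · exact ⟨_, _, Or.inl rfl, chkD4_0⟩
    · exact ⟨_, _, Or.inl rfl, chkD4_1⟩
    · exact ⟨_, _, Or.inl rfl, chkD4_2⟩
    · exact ⟨_, _, Or.inl rfl, chkD4_3⟩
  · replace hi : i < 4 := hi
    interval_cases i
    · exact ⟨_, _, Or.inr (Or.inl ⟨rfl, Or.inr rfl⟩), chkF4_0⟩
    · exact ⟨_, _, Or.inr (Or.inl ⟨rfl, Or.inr rfl⟩), chkF4_1⟩
    · exact absurd hshort (by decide +kernel)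
    · exact absurd hshort (by decide +kernel)
  · replace hi : i < 6 := hi
    interval_cases i
    · exact ⟨_, _, Or.inl rfl, chkE6_0⟩
    · exact ⟨_, _, Or.inl rfl, chkE6_1⟩
    · exact ⟨_, _, Or.inl rfl, chkE6_2⟩
    · exact ⟨_, _, Or.inl rfl, chkE6_3⟩
    · exact ⟨_, _, Or.inl rfl, chkE6_4⟩
    · exact ⟨_, _, Or.inl rfl, chkE6_5⟩
  · replace hi : i < 7 := hi
    interval_cases i
    · exact ⟨_, _, Or.inl rfl, chkE7_0⟩
    · exact ⟨_, _, Or.inl rfl, chkE7_1⟩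
    · exact ⟨_, _, Or.inl rfl, chkE7_2⟩
    · exact ⟨_, _, Or.inl rfl, chkE7_3⟩
    · exact ⟨_, _, Or.inl rfl, chkE7_4⟩
    · exact ⟨_, _, Or.inl rfl, chkE7_5⟩
    · exact ⟨_, _, Or.inl rfl, chkE7_6⟩
  · replace hi : i < 8 := hi
    interval_cases i
    · exact ⟨_, _, Or.inl rfl, chkE8_0⟩
    · exact ⟨_, _, Or.inl rfl, chkE8_1⟩
    · exact ⟨_, _, Or.inl rfl, chkE8_2⟩
    · exact ⟨_, _, Or.inl rfl, chkE8_3⟩
    · exact ⟨_, _, Or.inl rfl, chkE8_4⟩
    · exact ⟨_, _, Or.inl rfl, chkE8_5⟩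
    · exact ⟨_, _, Or.inl rfl, chkE8_6⟩
    · exact ⟨_, _, Or.inl rfl, chkE8_7⟩

/-- Certificates for one short and one long fundamental root, for two root lengths. -/
theorem exists_cert2 {D : ChevalleyDatum} (hD : D ∈ [chevG2, chevB2, chevF4])
    {i j : ℕ} (hi : i < D.rank) (hj : j < D.rank) (hshort : D.isLong (D.simple i) = false)
    (hlong : D.isLong (D.simple j) = true) :
    ∃ (l : List Cert), checkAll D [i, j] 1 l = true := by
  simp only [List.mem_cons, List.not_mem_nil, or_false] at hD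
  rcases hD with rfl | rfl | rfl
  · replace hi : i < 2 := hi
    replace hj : j < 2 := hj
    interval_cases i <;> interval_cases j
    · exact absurd hlong (by decide +kernel)
    · exact ⟨_, chk2G2_0_1⟩
    · exact absurd hshort (by decide +kernel)
    · exact absurd hshort (by decide +kernel)
  · replace hi : i < 2 := hi
    replace hj : j < 2 := hj
    interval_cases i <;> interval_cases j
    · exact absurd hlong (by decide +kernel)
    · exact ⟨_, chk2B2_0_1⟩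
    · exact absurd hshort (by decide +kernel)
    · exact absurd hshort (by decide +kernel)
  · replace hi : i < 4 := hi
    replace hj : j < 4 := hj
    interval_cases i <;> interval_cases j
    · exact absurd hlong (by decide +kernel)
    · exact absurd hlong (by decide +kernel)
    · exact ⟨_, chk2F4_0_2⟩
    · exact ⟨_, chk2F4_0_3⟩
    · exact absurd hlong (by decide +kernel)
    · exact absurd hlong (by decide +kernel)
    · exact ⟨_, chk2F4_1_2⟩
    · exact ⟨_, chk2F4_1_3⟩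
    · exact absurd hshort (by decide +kernel)
    · exact absurd hshort (by decide +kernel)
    · exact absurd hshort (by decide +kernel)
    · exact absurd hshort (by decide +kernel)
    · exact absurd hshort (by decide +kernel)
    · exact absurd hshort (by decide +kernel)
    · exact absurd hshort (by decide +kernel)
    · exact absurd hshort (by decide +kernel)

end Cfsg.Agent.Lib.Mono.Certs
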